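import Mathlib
import Groth.Agent.Lib.Helper4.FibDimBC2
import Groth.Agent.Lib.Helper7.FibTop.Props

set_option autoImplicit false
set_option linter.style.haveILetI false
set_option linter.unusedVariables false
set_option linter.unusedSectionVars false
set_option backward.isDefEq.respectTransparency.types false

open CategoryTheory CategoryTheory.Limits AlgebraicGeometry Opposite Topology TopologicalSpace

universe u

/-! helper7: the residual transcendence degrees at the maximal points of the trace of a subset on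
the fibres of a morphism locally of finite type: they are the dimensions of the irreducible
components of the trace when it is locally closed in the fibre, and they are compatible with base
change. -/

namespace Groth.Agent.Helper7.CompDim

open Groth.Agent.Lib.Helper4.FibDim1 Groth.Agent.Lib.Helper4.FibMap1
  Groth.Agent.Lib.Helper4.FibDimBC2 Groth.Agent.Lib.Helper4.Equi10
  Groth.Agent.Lib.Helper4.PropDim1 Groth.Agent.Lib.Helper4.Chev8 Groth.Agent.Lib.Helper4.Aff2

section Top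

variable {T : Type*} [TopologicalSpace T]

/-- in a quasi-sober T0 space the irreducible components are the closures of the points
without proper generization. -/
theorem mem_irreducibleComponents_iff [QuasiSober T] [T0Space T] (C : Set T) :
    C ∈ irreducibleComponents T ↔
      ∃ ω : T, (∀ ω' : T, ω' ⤳ ω → ω' = ω) ∧ closure {ω} = C := by
  constructor
  · intro hC
    obtain ⟨ω, h1, h2⟩ := exists_max_of_irreducibleComponent C hC
    exact ⟨ω, h2, h1⟩
  · rintro ⟨ω, hmax, rfl⟩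
    refine ⟨isIrreducible_singleton.closure, ?_⟩
    intro A hA hle
    have hAcl : IsIrreducible (closure A) := hA.closure
    have hgen : IsGenericPoint hAcl.genericPoint (closure A) :=
      hAcl.isGenericPoint_genericPoint isClosed_closure
    have hωA : ω ∈ closure A := subset_closure (hle (subset_closure (Set.mem_singleton ω)))
    have h1 : hAcl.genericPoint ⤳ ω := hgen.specializes hωA
    have h2 := hmax _ h1
    intro a ha
    have h3 : hAcl.genericPoint ⤳ a := hgen.specializes (subset_closure ha)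
    rw [h2] at h3
    exact h3.mem_closure

end Top

variable {X S : Scheme.{u}}

/-- the residual transcendence degrees at the maximal points of the trace of a subset on a
fibre. -/
def maxDims (f : X ⟶ S) [LocallyOfFiniteType f] (Z : Set X) (s : S) : Set (WithBot ℕ∞) :=
  (fun z : X => ((tr f z : ℕ) : WithBot ℕ∞)) ''
    {z | z ∈ Z ∩ ⇑f ⁻¹' {s} ∧ ∀ z' ∈ Z ∩ ⇑f ⁻¹' {s}, z' ⤳ z → z' = z}

set_option backward.isDefEq.respectTransparency false in
/-- the dimension of the closure of a point in the trace of a locally closed subset on a fibre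
is the residual transcendence degree. -/
theorem dim_closure_point (f : X ⟶ S) [LocallyOfFiniteType f] (s : S) (F U : Set X)
    (hF : IsClosed F) (hU : IsOpen U) (ω : ↥((⇑f ⁻¹' {s} ∩ F) ∩ U)) :
    topologicalKrullDim ↥(closure ({ω} : Set ↥((⇑f ⁻¹' {s} ∩ F) ∩ U))) =
      ((tr f ω.1 : ℕ) : WithBot ℕ∞) := by
  obtain ⟨⟨hωs, hωF⟩, hωU⟩ := ω.2
  let ι := f.fiberι s
  let Uy : (f.fiber s).Opens := ι ⁻¹ᵁ ⟨U, hU⟩
  obtain ⟨y, hy⟩ : ∃ y : f.fiber s, ι y = ω.1 := by
    have : ω.1 ∈ Set.range (f.fiberι s) := by rw [Scheme.Hom.range_fiberι]; exact hωs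
    exact this
  have hyU : y ∈ Uy := by
    change ι y ∈ U
    rw [hy]; exact hωU
  let yU : ↥(Uy : Scheme.{u}) := ⟨y, hyU⟩
  let φ : f.fiber s ⟶ Spec (CommRingCat.of ↑(S.residueField s)) := f.fiberToSpecResidueField s
  haveI : LocallyOfFiniteType φ := inferInstanceAs (LocallyOfFiniteType (f.fiberToSpecResidueField s))
  have hemb : IsEmbedding (Uy.ι ≫ ι) := (Uy.ι ≫ ι).isEmbedding
  have hrange : Set.range (Uy.ι ≫ ι) = U ∩ ⇑f ⁻¹' {s} := by
    rw [Scheme.Hom.comp_base, TopCat.coe_comp, Set.range_comp]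
    have h1 : Set.range Uy.ι = ι ⁻¹' U := by
      rw [Scheme.Opens.range_ι]; rfl
    rw [h1, Set.image_preimage_eq_inter_range, Scheme.Hom.range_fiberι]
  have hval : (Uy.ι ≫ ι) yU = ω.1 := by
    rw [Scheme.Hom.comp_apply]
    exact hy
  have h1 : (Uy.ι ≫ ι) '' closure ({yU} : Set ↥(Uy : Scheme.{u})) =
      closure ({ω.1} : Set X) ∩ (U ∩ ⇑f ⁻¹' {s}) := by
    rw [hemb.isInducing.closure_eq_preimage_closure_image, Set.image_singleton,
      Set.image_preimage_eq_inter_range, hrange, hval]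
  have h3 : Subtype.val '' closure ({ω} : Set ↥((⇑f ⁻¹' {s} ∩ F) ∩ U)) =
      closure ({ω.1} : Set X) ∩ (U ∩ ⇑f ⁻¹' {s}) := by
    rw [Topology.IsInducing.subtypeVal.closure_eq_preimage_closure_image, Set.image_singleton,
      Subtype.image_preimage_coe]
    have hcl : closure ({ω.1} : Set X) ⊆ F :=
      closure_minimal (Set.singleton_subset_iff.mpr hωF) hF
    ext x
    constructor
    · rintro ⟨⟨⟨hxs, -⟩, hxU⟩, hxc⟩
      exact ⟨hxc, hxU, hxs⟩
    · rintro ⟨hxc, hxU, hxs⟩
      exact ⟨⟨⟨hxs, hcl hxc⟩, hxU⟩, hxc⟩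
  have e1 : ↥(closure ({ω} : Set ↥((⇑f ⁻¹' {s} ∩ F) ∩ U))) ≃ₜ
      ↥(Subtype.val '' closure ({ω} : Set ↥((⇑f ⁻¹' {s} ∩ F) ∩ U))) :=
    Topology.IsEmbedding.subtypeVal.homeomorphImage _
  have e2 : ↥(closure ({yU} : Set ↥(Uy : Scheme.{u}))) ≃ₜ
      ↥((Uy.ι ≫ ι) '' closure ({yU} : Set ↥(Uy : Scheme.{u}))) :=
    hemb.homeomorphImage _
  rw [e1.isHomeomorph.topologicalKrullDim_eq, h3, ← h1,
    ← e2.isHomeomorph.topologicalKrullDim_eq,
    dim_closure_of_field ↑(S.residueField s) (Uy.ι ≫ φ) yU, tr_restrict φ Uy yU]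
  have h4 := tr_fiber f s y
  rw [hy] at h4
  rw [← h4]
  rfl

/-- the trace of a locally closed subset on a fibre is quasi-sober. -/
theorem quasiSober_trace (f : X ⟶ S) (s : S) (F U : Set X)
    (hF : IsClosed F) (hU : IsOpen U) : QuasiSober ↥((⇑f ⁻¹' {s} ∩ F) ∩ U) := by
  haveI : QuasiSober ↥(⇑f ⁻¹' {s}) := (f.fiberHomeo s).symm.isClosedEmbedding.quasiSober
  haveI : QuasiSober ↥(⇑f ⁻¹' {s} ∩ F) :=
    QuasiSober.inter_of_isClosed_of_quasiSober_left _ hF
  refine (Topology.IsOpenEmbedding.inclusion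
    (Set.inter_subset_left : (⇑f ⁻¹' {s} ∩ F) ∩ U ⊆ ⇑f ⁻¹' {s} ∩ F) ?_).quasiSober
  rw [Subtype.preimage_coe_self_inter]
  exact hU.preimage continuous_subtype_val

/-- the dimensions of the irreducible components of the trace of a subset on a fibre, when this
trace is locally closed in the fibre, are the residual transcendence degrees at its maximal
points. -/
theorem compDims_eq_maxDims (f : X ⟶ S) [LocallyOfFiniteType f] (Z : Set X) (s : S)
    (hZs : IsLocallyClosed (Subtype.val ⁻¹' Z : Set ↥(⇑f ⁻¹' {s}))) :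
    (fun T : Set ↥(Z ∩ ⇑f ⁻¹' {s}) => topologicalKrullDim ↥T) ''
      irreducibleComponents ↥(Z ∩ ⇑f ⁻¹' {s}) = maxDims f Z s := by
  obtain ⟨U', F', hU', hF', hA⟩ := hZs
  obtain ⟨U, hU, rfl⟩ := isOpen_induced_iff.mp hU'
  obtain ⟨F, hF, rfl⟩ := isClosed_induced_iff.mp hF'
  have hW : Z ∩ ⇑f ⁻¹' {s} = (⇑f ⁻¹' {s} ∩ F) ∩ U := by
    ext x
    constructor
    · rintro ⟨hxZ, hxs⟩
      have : (⟨x, hxs⟩ : ↥(⇑f ⁻¹' {s})) ∈ Subtype.val ⁻¹' Z := hxZ
      rw [hA] at this
      exact ⟨⟨hxs, this.2⟩, this.1⟩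
    · rintro ⟨⟨hxs, hxF⟩, hxU⟩
      have : (⟨x, hxs⟩ : ↥(⇑f ⁻¹' {s})) ∈ Subtype.val ⁻¹' Z := by
        rw [hA]
        exact ⟨hxU, hxF⟩
      exact ⟨this, hxs⟩
  unfold maxDims
  rw [hW]
  haveI := quasiSober_trace f s F U hF hU
  ext d
  constructor
  · rintro ⟨C, hC, rfl⟩
    obtain ⟨ω, hmax, rfl⟩ := (mem_irreducibleComponents_iff C).mp hC
    refine ⟨ω.1, ⟨ω.2, ?_⟩, (dim_closure_point f s F U hF hU ω).symm⟩
    intro z' hz' hsp
    have h1 : (⟨z', hz'⟩ : ↥((⇑f ⁻¹' {s} ∩ F) ∩ U)) ⤳ ω := by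
      rw [← Topology.IsInducing.subtypeVal.specializes_iff]
      exact hsp
    exact congrArg Subtype.val (hmax _ h1)
  · rintro ⟨z, ⟨hzW, hmax⟩, rfl⟩
    refine ⟨closure {⟨z, hzW⟩}, (mem_irreducibleComponents_iff _).mpr ⟨⟨z, hzW⟩, ?_, rfl⟩,
      dim_closure_point f s F U hF hU ⟨z, hzW⟩⟩
    intro ω' hsp
    have h1 : ω'.1 ⤳ z := by
      rw [← Topology.IsInducing.subtypeVal.specializes_iff] at hsp
      exact hsp
    exact Subtype.ext (hmax ω'.1 ω'.2 h1)

section BC

variable {X' S' : Scheme.{u}} {f : X ⟶ S} {f' : X' ⟶ S'} {pX : X' ⟶ X} {π : S' ⟶ S}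

set_option backward.isDefEq.respectTransparency false in
/-- above a maximal point of the trace of a subset on a fibre there are maximal points of the
trace of its preimage on the fibres of a base change, with the same residual transcendence
degree. -/
theorem exists_max_above (h : IsPullback pX f' f π) [LocallyOfFiniteType f]
    [LocallyOfFiniteType f'] (Z : Set X) (s' : S') (z : X) (hzs : f z = π s')
    (hzmax : ∀ z₁ ∈ Z, f z₁ = π s' → z₁ ⤳ z → z₁ = z) (z'₀ : X') (hz'₀ : pX z'₀ = z)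
    (hz'₀s : f' z'₀ = s') :
    ∃ z' : X', z' ⤳ z'₀ ∧ pX z' = z ∧ f' z' = s' ∧
      (∀ w : X', pX w ∈ Z → f' w = s' → w ⤳ z' → w = z') ∧ tr f' z' = tr f z := by
  have hsq : ∀ a : X', f (pX a) = π (f' a) := sq_apply f π pX f' h
  let C : Closeds X := ⟨closure {z}, isClosed_closure⟩
  obtain ⟨T, i, hi, hrange⟩ : ∃ (T : Scheme.{u}) (i : T ⟶ X),
      IsClosedImmersion i ∧ Set.range i = closure {z} :=
    ⟨_, (Scheme.IdealSheafData.vanishingIdeal C).subschemeι, inferInstance, by
      rw [Scheme.IdealSheafData.range_subschemeι,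
        Scheme.IdealSheafData.coe_support_vanishingIdeal]
      rfl⟩
  obtain ⟨c, hc⟩ : ∃ c : T, i c = z := by
    have : z ∈ Set.range i := by rw [hrange]; exact subset_closure rfl
    exact this
  have hgen : ∀ c₀ : T, c ⤳ c₀ := by
    intro c₀
    rw [← i.isEmbedding.isInducing.specializes_iff, hc, specializes_iff_mem_closure, ← hrange]
    exact ⟨c₀, rfl⟩
  have hP : IsPullback (pullback.fst i pX) (pullback.snd i pX ≫ f') (i ≫ f) π :=
    (IsPullback.of_hasPullback i pX).paste_vert h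
  obtain ⟨c'₀, hc'₀1, hc'₀2⟩ := Scheme.Pullback.exists_preimage_pullback (f := i) (g := pX) c z'₀
    (by rw [hc, hz'₀])
  obtain ⟨c', hsp, hfib, hmax⟩ := exists_fibreMax_ge (pullback.snd i pX ≫ f') c'₀
  have hpc : pullback.fst i pX c' = c := by
    have h1 : pullback.fst i pX c' ⤳ c := by
      have := hsp.map (pullback.fst i pX).continuous
      rwa [hc'₀1] at this
    exact (h1.antisymm (hgen _)).eq
  obtain ⟨htr, -⟩ := tr_eq_of_max_abs (i ≫ f) π (pullback.fst i pX) (pullback.snd i pX ≫ f')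
    hP c' hmax
  have hcond : ∀ a : ↥(pullback i pX), pX (pullback.snd i pX a) = i (pullback.fst i pX a) := by
    intro a
    rw [← Scheme.Hom.comp_apply, ← Scheme.Hom.comp_apply, pullback.condition]
  have hpX : pX (pullback.snd i pX c') = z := by rw [hcond, hpc, hc]
  have hf' : f' (pullback.snd i pX c') = s' := by
    have : (pullback.snd i pX ≫ f') c' = (pullback.snd i pX ≫ f') c'₀ := hfib
    rw [Scheme.Hom.comp_apply, Scheme.Hom.comp_apply, hc'₀2, hz'₀s] at this
    exact this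
  refine ⟨pullback.snd i pX c', ?_, hpX, hf', ?_, ?_⟩
  · have := hsp.map (pullback.snd i pX).continuous
    rwa [hc'₀2] at this
  · intro w hwZ hws hwsp
    have h1 : pX w = z := by
      apply hzmax _ hwZ (by rw [hsq, hws])
      have := hwsp.map pX.continuous
      rwa [hpX] at this
    have hr : w ∈ Set.range (pullback.snd i pX) := by
      rw [Groth.Agent.Helper7.FibTop.range_snd_of_isPullback (IsPullback.of_hasPullback i pX)]
      change pX w ∈ Set.range i
      rw [h1, hrange]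
      exact subset_closure rfl
    obtain ⟨c'', rfl⟩ := hr
    have h2 : c'' ⤳ c' := by
      rw [← (pullback.snd i pX).isEmbedding.isInducing.specializes_iff]
      exact hwsp
    have h3 : (pullback.snd i pX ≫ f') c'' = (pullback.snd i pX ≫ f') c' := by
      rw [Scheme.Hom.comp_apply, Scheme.Hom.comp_apply, hws, hf']
    rw [hmax c'' h3 h2]
  · rw [← tr_comp_closedImmersion f' (pullback.snd i pX) c', htr, hpc,
      tr_comp_closedImmersion f i c, hc]

set_option backward.isDefEq.respectTransparency false in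
/-- the residual transcendence degrees at the maximal points of the traces on the fibres are
compatible with base change. -/
theorem maxDims_eq_of_isPullback (h : IsPullback pX f' f π) [LocallyOfFiniteType f]
    [LocallyOfFiniteType f'] (Z : Set X) (s' : S') :
    maxDims f' (pX ⁻¹' Z) s' = maxDims f Z (π s') := by
  have hsq : ∀ a : X', f (pX a) = π (f' a) := sq_apply f π pX f' h
  ext d
  constructor
  · rintro ⟨z', ⟨⟨hz'Z, hz's⟩, hz'max⟩, rfl⟩
    have hz's' : f' z' = s' := hz's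
    have hzs : f (pX z') = π s' := by rw [hsq, hz's']
    have hzmax : ∀ z₁ ∈ Z, f z₁ = π s' → z₁ ⤳ pX z' → z₁ = pX z' := by
      intro z₁ hz₁Z hz₁s hsp
      obtain ⟨w, hwsp, hwf, hwg⟩ := exists_generization_abs f π pX f' h z' z₁ hsp
        (by rw [hz₁s, hzs])
      have := hz'max w ⟨by rw [Set.mem_preimage, hwg]; exact hz₁Z, hwf.trans hz's'⟩ hwsp
      rw [← hwg, this]
    obtain ⟨z'', hsp, h1, h2, h3, h4⟩ :=
      exists_max_above h Z s' (pX z') hzs hzmax z' rfl hz's'
    have h5 : z'' = z' := hz'max z'' ⟨by rw [Set.mem_preimage, h1]; exact hz'Z, h2⟩ hsp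
    refine ⟨pX z', ⟨⟨hz'Z, hzs⟩, fun z₁ hz₁ hsp => hzmax z₁ hz₁.1 hz₁.2 hsp⟩, ?_⟩
    change ((tr f (pX z') : ℕ) : WithBot ℕ∞) = ((tr f' z' : ℕ) : WithBot ℕ∞)
    rw [← h4, h5]
  · rintro ⟨z, ⟨⟨hzZ, hzs⟩, hzmax⟩, rfl⟩
    have hzs' : f z = π s' := hzs
    obtain ⟨z'₀, h1, h2⟩ : ∃ z'₀ : X', pX z'₀ = z ∧ f' z'₀ = s' := by
      obtain ⟨w, hw1, hw2⟩ := Scheme.Pullback.exists_preimage_pullback (f := f) (g := π) z s' hzs'
      refine ⟨h.isoPullback.inv w, ?_, ?_⟩
      · rw [← Scheme.Hom.comp_apply, h.isoPullback_inv_fst, hw1]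
      · rw [← Scheme.Hom.comp_apply, h.isoPullback_inv_snd, hw2]
    obtain ⟨z', -, h3, h4, h5, h6⟩ := exists_max_above h Z s' z hzs'
      (fun z₁ hz₁ hz₁s hsp => hzmax z₁ ⟨hz₁, hz₁s⟩ hsp) z'₀ h1 h2
    refine ⟨z', ⟨⟨by rw [Set.mem_preimage, h3]; exact hzZ, h4⟩,
      fun w hw hsp => h5 w hw.1 hw.2 hsp⟩, ?_⟩
    change ((tr f' z' : ℕ) : WithBot ℕ∞) = ((tr f z : ℕ) : WithBot ℕ∞)
    rw [h6]

end BC

end Groth.Agent.Helper7.CompDim
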