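import Mathlib
import Groth.Agent.Lib.Helper7.CompDim.Basic
import Groth.Agent.Lib.Helper7.FibTop.Generic

set_option autoImplicit false
set_option linter.style.haveILetI false
set_option linter.unusedVariables false
set_option linter.unusedSectionVars false
set_option backward.isDefEq.respectTransparency.types false

open CategoryTheory CategoryTheory.Limits AlgebraicGeometry Opposite Topology TopologicalSpace

universe u

/-! helper7: over a nonempty open of an integral Noetherian base, the residual transcendence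
degrees at the maximal points of the traces on the fibres of a constructible subset with locally
closed traces are those of the generic fibre. -/

namespace Groth.Agent.Helper7.CompDim

open Groth.Agent.Lib.Helper4.FibDim1 Groth.Agent.Lib.Helper4.FibMap1
  Groth.Agent.Lib.Helper4.FibDimBC2 Groth.Agent.Lib.Helper4.Equi10
  Groth.Agent.Lib.Helper4.PropDim1 Groth.Agent.Lib.Helper4.Chev8 Groth.Agent.Lib.Helper4.Aff2
  Groth.Agent.Lib.Helper4.GenEqui1 Groth.Agent.Lib.Helper4.Chev3 Groth.Agent.Lib.Helper4.Chev5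
  Groth.Agent.Lib.Helper4.FibDim5

section Top

variable {T : Type*} [TopologicalSpace T]

/-- in a Noetherian quasi-sober T0 space a point without proper generization lies in every dense
open subset. -/
theorem mem_of_dense_of_max [NoetherianSpace T] [QuasiSober T] [T0Space T] (z : T)
    (hmax : ∀ z' : T, z' ⤳ z → z' = z) (O : Set T) (hO : IsOpen O) (hd : Dense O) : z ∈ O := by
  have hC : closure ({z} : Set T) ∈ irreducibleComponents T :=
    (mem_irreducibleComponents_iff _).mpr ⟨z, hmax, rfl⟩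
  obtain ⟨o, ho, hone, hoC⟩ :=
    NoetherianSpace.exists_isOpen_nonempty_subset_irreducibleComponent _ hC
  obtain ⟨a, ha1, ha2⟩ := hd.inter_open_nonempty o ho hone
  have hsp : z ⤳ a := specializes_iff_mem_closure.mpr (hoC ha1)
  exact hsp.mem_open hO ha2

end Top

/-- over a nonempty open of the base, the residual transcendence degree at the maximal points of
the fibres of a dominant morphism of finite type between irreducible schemes is that of the
generic point. -/
theorem tr_generic {T S : Scheme.{u}} (g : T ⟶ S)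
    [IsNoetherian S] [IrreducibleSpace S] [IrreducibleSpace T] [IsDominant g]
    [LocallyOfFiniteType g] [QuasiCompact g] :
    ∃ U : S.Opens, genericPoint S ∈ U ∧ ∀ z : T, g z ∈ U →
      (∀ z' : T, g z' = g z → z' ⤳ z → z' = z) → tr g z = tr g (genericPoint T) := by
  haveI : LocallyOfFinitePresentation g :=
    LocallyOfFinitePresentation.iff_locallyOfFiniteType.2 inferInstance
  haveI : IsLocallyNoetherian T := LocallyOfFiniteType.isLocallyNoetherian g
  haveI : CompactSpace T := QuasiCompact.compactSpace_of_compactSpace g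
  haveI : IsNoetherian T := {}
  have hξη : g (genericPoint T) = genericPoint S :=
    Groth.Agent.Lib.Helper4.Chev3.map_genericPoint_of_isDominant g
  obtain ⟨e, he⟩ : ∃ e, e = tr g (genericPoint T) := ⟨_, rfl⟩
  obtain ⟨C, hCdef⟩ : ∃ C : Set T,
      C = {x : T | ((e + 1 : ℕ) : WithBot ℕ∞) ≤ FlatMor.fibreDimAt g x} := ⟨_, rfl⟩
  have hCcl : IsClosed C := by
    rw [hCdef]
    exact isClosed_setOf_le_fibreDimAt g _
  have hCcons : IsConstructible C := by
    have h1 : IsRetrocompact Cᶜ := fun U _ _ => NoetherianSpace.isCompact _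
    exact (h1.isConstructible hCcl.isOpen_compl).of_compl
  have hE : IsLocallyConstructible (g '' C) :=
    g.isLocallyConstructible_image hCcons.isLocallyConstructible
  have hηE : genericPoint S ∉ g '' C := by
    rintro ⟨x, hxC, hxη⟩
    rw [hCdef] at hxC
    have h1 : FlatMor.fibreDimAt g x ≤ (e : WithBot ℕ∞) := by
      apply fibreDimAt_le_of_max_tr_le g x e
      intro z hz _ hzmax
      have h2 : genericPoint T = z :=
        hzmax _ (by rw [hξη, hz, hxη]) (genericPoint_specializes z)
      rw [← h2, he]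
    have h3 := le_trans hxC h1
    have h4 : e + 1 ≤ e := by exact_mod_cast h3
    omega
  obtain ⟨U, hUo, hηU, hUE⟩ := exists_open_disjoint_of_isLocallyConstructible (genericPoint S)
    (fun U hU hne => ((genericPoint_spec S).mem_open_set_iff hU).mpr (by
      rw [Set.univ_inter]; exact hne)) hE hηE
  refine ⟨⟨U, hUo⟩, hηU, ?_⟩
  intro z hzU hzmax
  have h1 : e ≤ tr g z := by
    rw [he]
    exact tr_le_tr_of_specializes_of_max g z _ (genericPoint_specializes z) hzmax
  have h2 : tr g z ≤ e := by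
    have hzC : z ∉ C := fun hz => hUE (g z) hzU ⟨z, hz, rfl⟩
    rw [hCdef] at hzC
    have h3 : FlatMor.fibreDimAt g z < ((e + 1 : ℕ) : WithBot ℕ∞) := not_le.mp hzC
    rw [(max_point_facts g z hzmax).1] at h3
    have : tr g z < e + 1 := by exact_mod_cast h3
    omega
  rw [← he]
  exact le_antisymm h2 h1

set_option backward.isDefEq.respectTransparency false in
/-- the generic behaviour of the fibres of the closure of a point lying over the generic point
of the base. -/
theorem generic_component {X S : Scheme.{u}} (f : X ⟶ S) [IsIntegral S] [IsNoetherian S]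
    [LocallyOfFiniteType f] [QuasiCompact f] (ξ : X) (hξ : f ξ = genericPoint S) (O : Set X)
    (hO : IsOpen O) (hξO : ξ ∈ O) :
    ∃ V : S.Opens, genericPoint S ∈ V ∧ ∀ s ∈ V,
      (∃ z ∈ closure ({ξ} : Set X), f z = s ∧
        ∀ z' ∈ closure ({ξ} : Set X), f z' = s → z' ⤳ z → z' = z) ∧
      ∀ z ∈ closure ({ξ} : Set X), f z = s →
        (∀ z' ∈ closure ({ξ} : Set X), f z' = s → z' ⤳ z → z' = z) →
          tr f z = tr f ξ ∧ z ∈ O := by
  let C : Closeds X := ⟨closure {ξ}, isClosed_closure⟩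
  obtain ⟨T, i, hi, hrange⟩ : ∃ (T : Scheme.{u}) (i : T ⟶ X),
      IsClosedImmersion i ∧ Set.range i = closure {ξ} :=
    ⟨_, (Scheme.IdealSheafData.vanishingIdeal C).subschemeι, inferInstance, by
      rw [Scheme.IdealSheafData.range_subschemeι,
        Scheme.IdealSheafData.coe_support_vanishingIdeal]
      rfl⟩
  obtain ⟨c, hc⟩ : ∃ c : T, i c = ξ := by
    have : ξ ∈ Set.range i := by rw [hrange]; exact subset_closure rfl
    exact this
  have hgen : ∀ c₀ : T, c ⤳ c₀ := by
    intro c₀
    rw [← i.isEmbedding.isInducing.specializes_iff, hc, specializes_iff_mem_closure, ← hrange]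
    exact ⟨c₀, rfl⟩
  have hcl : closure ({c} : Set T) = Set.univ := by
    rw [Set.eq_univ_iff_forall]
    intro c₀
    exact (hgen c₀).mem_closure
  haveI : IrreducibleSpace T := by
    rw [irreducibleSpace_def, Set.top_eq_univ, ← hcl]
    exact isIrreducible_singleton.closure
  have hcgen : genericPoint T = c := (genericPoint_spec T).eq hcl
  haveI : IsLocallyNoetherian X := LocallyOfFiniteType.isLocallyNoetherian f
  haveI : CompactSpace X := QuasiCompact.compactSpace_of_compactSpace f
  haveI : IsLocallyNoetherian T := LocallyOfFiniteType.isLocallyNoetherian i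
  haveI : CompactSpace T := QuasiCompact.compactSpace_of_compactSpace i
  haveI : IsNoetherian T := {}
  haveI : IsDominant (i ≫ f) := by
    refine ⟨?_⟩
    have h1 : closure ({genericPoint S} : Set S) = Set.univ := (genericPoint_spec S).def
    rw [DenseRange, dense_iff_closure_eq, ← Set.univ_subset_iff, ← h1]
    apply closure_mono
    rintro _ rfl
    exact ⟨c, by rw [Scheme.Hom.comp_apply, hc, hξ]⟩
  haveI : LocallyOfFinitePresentation (i ≫ f) :=
    LocallyOfFinitePresentation.iff_locallyOfFiniteType.2 inferInstance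
  obtain ⟨U₁, hU₁, hU₁'⟩ := tr_generic (i ≫ f)
  -- nonempty fibres
  have hE : IsLocallyConstructible (Set.range (i ≫ f))ᶜ := by
    have := (i ≫ f).isLocallyConstructible_image
      (IsConstructible.univ (X := T)).isLocallyConstructible
    rw [Set.image_univ] at this
    intro x
    obtain ⟨U, hxU, hU, hc⟩ := this x
    exact ⟨U, hxU, hU, by rw [Set.preimage_compl]; exact hc.compl⟩
  have hηE : genericPoint S ∉ (Set.range (i ≫ f))ᶜ := by
    intro h
    exact h ⟨c, by rw [Scheme.Hom.comp_apply, hc, hξ]⟩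
  obtain ⟨U₂, hU₂o, hηU₂, hU₂E⟩ :=
    exists_open_disjoint_of_isLocallyConstructible (genericPoint S)
      (fun U hU hne => ((genericPoint_spec S).mem_open_set_iff hU).mpr (by
        rw [Set.univ_inter]; exact hne)) hE hηE
  -- density
  have hd : Dense (i ⁻¹' O) := (hO.preimage i.continuous).dense ⟨c, by
    change i c ∈ O
    rw [hc]; exact hξO⟩
  obtain ⟨U₃, hU₃, hU₃'⟩ := Groth.Agent.Helper7.FibTop.dense_fibres_near_generic (i ≫ f)
    (i ⁻¹' O) (hO.preimage i.continuous) hd
  refine ⟨U₁ ⊓ ⟨U₂, hU₂o⟩ ⊓ U₃, ⟨⟨hU₁, hηU₂⟩, hU₃⟩, ?_⟩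
  rintro s ⟨⟨hs1, hs2⟩, hs3⟩
  have hmem : ∀ z ∈ closure ({ξ} : Set X), ∃ t : T, i t = z := by
    intro z hz
    rw [← hrange] at hz
    exact hz
  constructor
  · obtain ⟨t₀, ht₀⟩ : s ∈ Set.range (i ≫ f) := by
      by_contra h
      exact hU₂E s hs2 h
    obtain ⟨t, htsp, htf, htmax⟩ := exists_fibreMax_ge (i ≫ f) t₀
    refine ⟨i t, by rw [← hrange]; exact ⟨t, rfl⟩, ?_, ?_⟩
    · rw [← ht₀, ← htf]; rfl
    · intro z' hz' hz's hsp
      obtain ⟨t', rfl⟩ := hmem z' hz'
      have h1 : t' ⤳ t := by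
        rw [← i.isEmbedding.isInducing.specializes_iff]
        exact hsp
      have h2 : (i ≫ f) t' = (i ≫ f) t := by
        rw [htf, ht₀]
        exact hz's
      rw [htmax t' h2 h1]
  · intro z hz hzs hzmax
    obtain ⟨t, rfl⟩ := hmem z hz
    have htmax : ∀ t' : T, (i ≫ f) t' = (i ≫ f) t → t' ⤳ t → t' = t := by
      intro t' h1 h2
      apply i.isEmbedding.injective
      apply hzmax (i t') (by rw [← hrange]; exact ⟨t', rfl⟩)
      · have : (i ≫ f) t' = f (i t) := h1
        rw [← hzs]
        exact this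
      · exact h2.map i.continuous
    have hts : (i ≫ f) t = s := hzs
    constructor
    · have h1 := hU₁' t (by rw [hts]; exact hs1) htmax
      rw [hcgen, tr_comp_closedImmersion f i t, tr_comp_closedImmersion f i c, hc] at h1
      exact h1
    · obtain ⟨y, hy⟩ : ∃ y : (i ≫ f).fiber s, (i ≫ f).fiberι s y = t := by
        have : t ∈ Set.range ((i ≫ f).fiberι s) := by
          rw [Scheme.Hom.range_fiberι]; exact hts
        exact this
      haveI : NoetherianSpace ↥((i ≫ f).fiber s) :=
        ((i ≫ f).fiberι s).isEmbedding.isInducing.noetherianSpace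
      have hymax : ∀ y' : (i ≫ f).fiber s, y' ⤳ y → y' = y := by
        intro y' hsp
        apply ((i ≫ f).fiberι s).isEmbedding.injective
        rw [hy]
        apply htmax
        · rw [hts]
          have : (i ≫ f).fiberι s y' ∈ Set.range ((i ≫ f).fiberι s) := ⟨y', rfl⟩
          rw [Scheme.Hom.range_fiberι] at this
          exact this
        · rw [← hy]
          exact hsp.map ((i ≫ f).fiberι s).continuous
      have h2 := mem_of_dense_of_max y hymax _
        ((hO.preimage i.continuous).preimage ((i ≫ f).fiberι s).continuous) (hU₃' s hs3)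
      change i ((i ≫ f).fiberι s y) ∈ O at h2
      rw [hy] at h2
      exact h2

set_option backward.isDefEq.respectTransparency false in
/-- over a nonempty open of an integral Noetherian base, the residual transcendence degrees at
the maximal points of the fibres of a morphism of finite type are those of the generic fibre. -/
theorem maxDims_univ_generic {X S : Scheme.{u}} (f : X ⟶ S) [IsIntegral S] [IsNoetherian S]
    [LocallyOfFiniteType f] [QuasiCompact f] :
    ∃ V : S.Opens, genericPoint S ∈ V ∧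
      ∀ s ∈ V, maxDims f Set.univ s = maxDims f Set.univ (genericPoint S) := by
  haveI : IsLocallyNoetherian X := LocallyOfFiniteType.isLocallyNoetherian f
  haveI : CompactSpace X := QuasiCompact.compactSpace_of_compactSpace f
  haveI : IsNoetherian X := {}
  have hfin : (irreducibleComponents X).Finite := NoetherianSpace.finite_irreducibleComponents
  haveI : Finite ↥(irreducibleComponents X) := hfin.to_subtype
  have hgp : ∀ C : ↥(irreducibleComponents X), ∃ ω : X, (∀ ω' : X, ω' ⤳ ω → ω' = ω) ∧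
      closure {ω} = C.1 := fun C => (mem_irreducibleComponents_iff C.1).mp C.2
  choose ξ hξmax hξcl using hgp
  let O : ↥(irreducibleComponents X) → Set X := fun C =>
    (⋃ C' ∈ {C' | C' ∈ irreducibleComponents X ∧ C' ≠ C.1}, C')ᶜ
  have hOopen : ∀ C, IsOpen (O C) := by
    intro C
    rw [isOpen_compl_iff]
    apply Set.Finite.isClosed_biUnion (hfin.subset (fun C' h => h.1))
    intro C' hC'
    exact isClosed_of_mem_irreducibleComponents C' hC'.1
  have hmemO : ∀ (C : ↥(irreducibleComponents X)) (z : X), z ∈ O C →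
      ∀ C' ∈ irreducibleComponents X, z ∈ C' → C' = C.1 := by
    intro C z hz C' hC' hzC'
    by_contra hne
    apply hz
    simp only [Set.mem_iUnion, exists_prop]
    exact ⟨C', ⟨hC', hne⟩, hzC'⟩
  have hξO : ∀ C, ξ C ∈ O C := by
    intro C h
    simp only [Set.mem_iUnion, exists_prop] at h
    obtain ⟨C', ⟨hC', hne⟩, hmem⟩ := h
    apply hne
    have hsub : C.1 ⊆ C' := by
      rw [← hξcl C]
      exact closure_minimal (Set.singleton_subset_iff.mpr hmem)
        (isClosed_of_mem_irreducibleComponents C' hC')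
    exact Set.Subset.antisymm (C.2.2 hC'.1 hsub) hsub
  have hper : ∀ C : ↥(irreducibleComponents X), ∃ V : S.Opens, genericPoint S ∈ V ∧ ∀ s ∈ V,
      (f (ξ C) ≠ genericPoint S → ∀ z ∈ C.1, f z ≠ s) ∧
      (f (ξ C) = genericPoint S →
        (∃ z ∈ C.1, f z = s ∧ ∀ z' ∈ C.1, f z' = s → z' ⤳ z → z' = z) ∧
        ∀ z ∈ C.1, f z = s → (∀ z' ∈ C.1, f z' = s → z' ⤳ z → z' = z) →
          tr f z = tr f (ξ C) ∧ z ∈ O C) := by
    intro C
    by_cases hdom : f (ξ C) = genericPoint S
    · obtain ⟨V, hV, hV'⟩ := generic_component f (ξ C) hdom (O C) (hOopen C) (hξO C)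
      rw [hξcl C] at hV'
      exact ⟨V, hV, fun s hs => ⟨fun h => absurd hdom h, fun _ => hV' s hs⟩⟩
    · refine ⟨⟨(closure {f (ξ C)})ᶜ, isClosed_closure.isOpen_compl⟩, ?_, ?_⟩
      · intro h
        have h1 : f (ξ C) ⤳ genericPoint S := specializes_iff_mem_closure.mpr h
        exact hdom (h1.antisymm (genericPoint_specializes _)).eq
      · intro s hs
        refine ⟨fun _ z hz hzs => ?_, fun h => absurd h hdom⟩
        apply hs
        rw [← hzs]
        have h1 : ξ C ⤳ z := by
          rw [specializes_iff_mem_closure, hξcl C]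
          exact hz
        exact (h1.map f.continuous).mem_closure
  choose V hV hV' using hper
  refine ⟨⟨⋂ C, (V C : Set S), isOpen_iInter_of_finite (fun C => (V C).2)⟩,
    Set.mem_iInter.mpr hV, ?_⟩
  intro s hs
  have hsV : ∀ C, s ∈ V C := fun C => Set.mem_iInter.mp hs C
  ext d
  constructor
  · rintro ⟨z, ⟨⟨-, hzs⟩, hzmax⟩, rfl⟩
    have hzs' : f z = s := hzs
    let C : ↥(irreducibleComponents X) :=
      ⟨irreducibleComponent z, irreducibleComponent_mem_irreducibleComponents z⟩
    have hzC : z ∈ C.1 := mem_irreducibleComponent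
    obtain ⟨h1, h2⟩ := hV' C s (hsV C)
    by_cases hdom : f (ξ C) = genericPoint S
    · obtain ⟨htr, -⟩ := (h2 hdom).2 z hzC hzs'
        (fun z' _ hz's hsp => hzmax z' ⟨trivial, hz's⟩ hsp)
      refine ⟨ξ C, ⟨⟨trivial, hdom⟩, fun z' _ hsp => hξmax C z' hsp⟩, ?_⟩
      change ((tr f (ξ C) : ℕ) : WithBot ℕ∞) = ((tr f z : ℕ) : WithBot ℕ∞)
      rw [htr]
    · exact absurd hzs' (h1 hdom z hzC)
  · rintro ⟨ω, ⟨⟨-, hωη⟩, hωmax⟩, rfl⟩
    have hωη' : f ω = genericPoint S := hωη
    have hmaxX : ∀ x : X, x ⤳ ω → x = ω := by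
      intro x hsp
      apply hωmax x ⟨trivial, ?_⟩ hsp
      have h1 : f x ⤳ genericPoint S := by
        rw [← hωη']
        exact hsp.map f.continuous
      exact (h1.antisymm (genericPoint_specializes _)).eq
    let C : ↥(irreducibleComponents X) :=
      ⟨closure {ω}, (mem_irreducibleComponents_iff _).mpr ⟨ω, hmaxX, rfl⟩⟩
    have hξω : ξ C = ω := (inseparable_iff_closure_eq.mpr (hξcl C)).eq
    have hdom : f (ξ C) = genericPoint S := by rw [hξω]; exact hωη'
    obtain ⟨⟨z, hzC, hzs, hzmaxC⟩, hall⟩ := (hV' C s (hsV C)).2 hdom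
    obtain ⟨htr, hzO⟩ := hall z hzC hzs hzmaxC
    refine ⟨z, ⟨⟨trivial, hzs⟩, ?_⟩, ?_⟩
    · rintro x ⟨-, hxs⟩ hsp
      have hzC' : z ∈ irreducibleComponent x :=
        hsp.mem_closed isClosed_irreducibleComponent mem_irreducibleComponent
      have h1 := hmemO C z hzO _ (irreducibleComponent_mem_irreducibleComponents x) hzC'
      have hxC : x ∈ C.1 := by
        rw [← h1]
        exact mem_irreducibleComponent
      exact hzmaxC x hxC hxs hsp
    · change ((tr f z : ℕ) : WithBot ℕ∞) = ((tr f ω : ℕ) : WithBot ℕ∞)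
      rw [htr, hξω]

/-- the residual transcendence degrees at the maximal points of the traces on the fibres of a
subset of a closed subscheme can be computed in the closed subscheme. -/
theorem maxDims_comp_closedImmersion {X S T : Scheme.{u}} (f : X ⟶ S) [LocallyOfFiniteType f]
    (i : T ⟶ X) [IsClosedImmersion i] (Z : Set X) (hZ : Z ⊆ Set.range i) (s : S) :
    maxDims (i ≫ f) (i ⁻¹' Z) s = maxDims f Z s := by
  ext d
  constructor
  · rintro ⟨t, ⟨⟨htZ, hts⟩, htmax⟩, rfl⟩
    refine ⟨i t, ⟨⟨htZ, hts⟩, ?_⟩, ?_⟩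
    · rintro z' ⟨hz'Z, hz's⟩ hsp
      obtain ⟨t', rfl⟩ := hZ hz'Z
      have h1 : t' ⤳ t := by
        rw [← i.isEmbedding.isInducing.specializes_iff]
        exact hsp
      rw [htmax t' ⟨hz'Z, hz's⟩ h1]
    · change ((tr f (i t) : ℕ) : WithBot ℕ∞) = ((tr (i ≫ f) t : ℕ) : WithBot ℕ∞)
      rw [tr_comp_closedImmersion f i t]
  · rintro ⟨z, ⟨⟨hzZ, hzs⟩, hzmax⟩, rfl⟩
    obtain ⟨t, rfl⟩ := hZ hzZ
    refine ⟨t, ⟨⟨hzZ, hzs⟩, ?_⟩, ?_⟩
    · rintro t' ⟨ht'Z, ht's⟩ hsp
      apply i.isEmbedding.injective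
      exact hzmax (i t') ⟨ht'Z, ht's⟩ (hsp.map i.continuous)
    · change ((tr (i ≫ f) t : ℕ) : WithBot ℕ∞) = ((tr f (i t) : ℕ) : WithBot ℕ∞)
      rw [tr_comp_closedImmersion f i t]

set_option backward.isDefEq.respectTransparency false in
/-- over a nonempty open of the base, the maximal points of the traces on the fibres of a subset
containing a dense open, with locally closed traces, are the maximal points of the fibres. -/
theorem maxDims_eq_univ_of_dense {X S : Scheme.{u}} (f : X ⟶ S) [IsIntegral S] [IsNoetherian S]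
    [LocallyOfFiniteType f] [QuasiCompact f] (Z O : Set X) (hO : IsOpen O) (hd : Dense O)
    (hOZ : O ⊆ Z) (V₀ : S.Opens) (hηV₀ : genericPoint S ∈ V₀)
    (hV₀ : ∀ s ∈ V₀, IsLocallyClosed ((f.fiberι s) ⁻¹' Z)) :
    ∃ V : S.Opens, genericPoint S ∈ V ∧ V ≤ V₀ ∧
      ∀ s ∈ V, maxDims f Z s = maxDims f Set.univ s := by
  haveI : IsLocallyNoetherian X := LocallyOfFiniteType.isLocallyNoetherian f
  haveI : CompactSpace X := QuasiCompact.compactSpace_of_compactSpace f
  haveI : IsNoetherian X := {}
  obtain ⟨V₁, hV₁, hV₁'⟩ := Groth.Agent.Helper7.FibTop.dense_fibres_near_generic f O hO hd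
  refine ⟨V₀ ⊓ V₁, ⟨hηV₀, hV₁⟩, inf_le_left, ?_⟩
  rintro s ⟨hs0, hs1⟩
  have hlc := hV₀ s hs0
  have hdense : Dense ((f.fiberι s) ⁻¹' Z) := (hV₁' s hs1).mono (Set.preimage_mono hOZ)
  have hAopen : IsOpen ((f.fiberι s) ⁻¹' Z) := by
    obtain ⟨U, F, hU, hF, hA⟩ := hlc
    have hFu : F = Set.univ := by
      have h1 : (f.fiberι s) ⁻¹' Z ⊆ F := by rw [hA]; exact Set.inter_subset_right
      have h2 := hdense.mono h1
      rw [← hF.closure_eq]
      exact h2.closure_eq
    rw [hA, hFu, Set.inter_univ]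
    exact hU
  haveI : NoetherianSpace ↥(f.fiber s) := (f.fiberι s).isEmbedding.isInducing.noetherianSpace
  have hlift : ∀ x : X, f x = s → ∃ y : f.fiber s, f.fiberι s y = x := by
    intro x hx
    have : x ∈ Set.range (f.fiberι s) := by rw [Scheme.Hom.range_fiberι]; exact hx
    exact this
  have key : ∀ x z : X, f x = s → f z = s → z ∈ Z → x ⤳ z → x ∈ Z := by
    intro x z hx hz hzZ hsp
    obtain ⟨yx, rfl⟩ := hlift x hx
    obtain ⟨yz, rfl⟩ := hlift z hz
    have h1 : yx ⤳ yz := by
      rw [← (f.fiberι s).isEmbedding.isInducing.specializes_iff]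
      exact hsp
    exact h1.mem_open hAopen hzZ
  ext d
  constructor
  · rintro ⟨z, ⟨⟨hzZ, hzs⟩, hzmax⟩, rfl⟩
    refine ⟨z, ⟨⟨trivial, hzs⟩, ?_⟩, rfl⟩
    rintro x ⟨-, hxs⟩ hsp
    exact hzmax x ⟨key x z hxs hzs hzZ hsp, hxs⟩ hsp
  · rintro ⟨z, ⟨⟨-, hzs⟩, hzmax⟩, rfl⟩
    refine ⟨z, ⟨⟨?_, hzs⟩, fun x hx hsp => hzmax x ⟨trivial, hx.2⟩ hsp⟩, rfl⟩
    obtain ⟨y, rfl⟩ := hlift z hzs
    have hymax : ∀ y' : f.fiber s, y' ⤳ y → y' = y := by
      intro y' hsp
      apply (f.fiberι s).isEmbedding.injective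
      apply hzmax _ ⟨trivial, ?_⟩ (hsp.map (f.fiberι s).continuous)
      have : f.fiberι s y' ∈ Set.range (f.fiberι s) := ⟨y', rfl⟩
      rw [Scheme.Hom.range_fiberι] at this
      exact this
    have h2 := mem_of_dense_of_max y hymax _ (hO.preimage (f.fiberι s).continuous) (hV₁' s hs1)
    exact hOZ h2

set_option backward.isDefEq.respectTransparency false in
/-- over a nonempty open of an integral Noetherian base, the residual transcendence degrees at
the maximal points of the traces on the fibres of a constructible subset whose traces are locally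
closed are those of the generic fibre. -/
theorem maxDims_generic {X S : Scheme.{u}} (f : X ⟶ S) [IsIntegral S] [IsNoetherian S]
    [LocallyOfFiniteType f] [QuasiCompact f] (Z : Set X) (hZ : IsConstructible Z)
    (V₀ : S.Opens) (hηV₀ : genericPoint S ∈ V₀)
    (hV₀ : ∀ s ∈ V₀, IsLocallyClosed ((f.fiberι s) ⁻¹' Z)) :
    ∃ V : S.Opens, genericPoint S ∈ V ∧ V ≤ V₀ ∧
      ∀ s ∈ V, maxDims f Z s = maxDims f Z (genericPoint S) := by
  haveI : IsLocallyNoetherian X := LocallyOfFiniteType.isLocallyNoetherian f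
  haveI : CompactSpace X := QuasiCompact.compactSpace_of_compactSpace f
  obtain ⟨O, hO, hO1, hO2⟩ := Groth.Agent.Helper7.FibTop.exists_open_dense hZ
  let C : Closeds X := ⟨closure Z, isClosed_closure⟩
  obtain ⟨T, i, hi, hrange⟩ : ∃ (T : Scheme.{u}) (i : T ⟶ X),
      IsClosedImmersion i ∧ Set.range i = closure Z :=
    ⟨_, (Scheme.IdealSheafData.vanishingIdeal C).subschemeι, inferInstance, by
      rw [Scheme.IdealSheafData.range_subschemeι,
        Scheme.IdealSheafData.coe_support_vanishingIdeal]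
      rfl⟩
  have hdense : Dense (i ⁻¹' O) := by
    rw [dense_iff_closure_eq, i.isEmbedding.isInducing.closure_eq_preimage_closure_image,
      Set.image_preimage_eq_inter_range, hrange]
    ext t
    simp only [Set.mem_preimage, Set.mem_univ, iff_true]
    have ht : i t ∈ closure Z := by rw [← hrange]; exact ⟨t, rfl⟩
    refine closure_mono ?_ (hO2 ht)
    rintro x ⟨hxO, hxZ⟩
    exact ⟨hxO, subset_closure hxZ⟩
  have hOZ : i ⁻¹' O ⊆ i ⁻¹' Z := by
    intro t ht
    refine hO1 ⟨ht, ?_⟩
    rw [← hrange]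
    exact ⟨t, rfl⟩
  have hlc : ∀ s ∈ V₀, IsLocallyClosed (((i ≫ f).fiberι s) ⁻¹' (i ⁻¹' Z)) := by
    intro s hs
    have e : ((i ≫ f).fiberι s) ⁻¹' (i ⁻¹' Z) =
        (MoreMor.fiberMap i f s) ⁻¹' ((f.fiberι s) ⁻¹' Z) := by
      ext t
      have := congrArg (fun φ => φ.base t) (Groth.Agent.Helper7.ConsMor.fiberMap_fiberι i f s)
      simp only [Scheme.Hom.comp_base, TopCat.comp_app] at this
      simp only [Set.mem_preimage]
      rw [this]
    rw [e]
    exact (hV₀ s hs).preimage (MoreMor.fiberMap i f s).continuous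
  obtain ⟨V₁, hV₁, hV₁₀, hV₁'⟩ := maxDims_eq_univ_of_dense (i ≫ f) (i ⁻¹' Z) (i ⁻¹' O)
    (hO.preimage i.continuous) hdense hOZ V₀ hηV₀ hlc
  obtain ⟨V₂, hV₂, hV₂'⟩ := maxDims_univ_generic (i ≫ f)
  have hsub : Z ⊆ Set.range i := by rw [hrange]; exact subset_closure
  refine ⟨V₁ ⊓ V₂, ⟨hV₁, hV₂⟩, inf_le_left.trans hV₁₀, ?_⟩
  rintro s ⟨hs1, hs2⟩
  rw [← maxDims_comp_closedImmersion f i Z hsub s,
    ← maxDims_comp_closedImmersion f i Z hsub (genericPoint S), hV₁' s hs1, hV₂' s hs2,
    hV₁' _ hV₁]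

end Groth.Agent.Helper7.CompDim
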