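import Mathlib
import Groth.Agent.Lib.Helper7.CompDim.Generic
import Groth.Agent.Lib.Helper7.FibTop.Main

set_option autoImplicit false
set_option linter.style.haveILetI false
set_option linter.unusedVariables false
set_option linter.unusedSectionVars false
set_option backward.isDefEq.respectTransparency.types false

open CategoryTheory CategoryTheory.Limits AlgebraicGeometry Opposite Topology TopologicalSpace

universe u

/-! helper7: local constructibility of the level sets of the function giving the set of
dimensions of the irreducible components of the traces on the fibres of a locally constructible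
subset (with locally closed traces) of the source of a morphism of finite presentation. -/

namespace Groth.Agent.Helper7.CompDim

open Groth.Agent.Helper7.ProConsLib Groth.Agent.Helper7.ConsPair Groth.Agent.Helper7.FibTop

/-- the set of points of the base over which the trace of a subset on the fibre is locally closed
with prescribed residual transcendence degrees at its maximal points. -/
def locus (Φ : Set (WithBot ℕ∞)) {X S : Scheme.{u}} (f : X ⟶ S) [LocallyOfFiniteType f]
    (Z : Set X) : Set S :=
  {s | IsLocallyClosed ((f.fiberι s) ⁻¹' Z) ∧ maxDims f Z s = Φ}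

variable (Φ : Set (WithBot ℕ∞))

/-- the locus commutes with base change. -/
theorem locus_eq_preimage {X S X' S' : Scheme.{u}} {f : X ⟶ S} {f' : X' ⟶ S'} {pX : X' ⟶ X}
    {π : S' ⟶ S} (h : IsPullback pX f' f π) [LocallyOfFiniteType f] [LocallyOfFiniteType f']
    (Z : Set X) : locus Φ f' (pX ⁻¹' Z) = π ⁻¹' locus Φ f Z := by
  ext s'
  have h1 : (s' ∈ locusTop locClosedFst f' (pX ⁻¹' Z) (pX ⁻¹' Z)) =
      (s' ∈ π ⁻¹' locusTop locClosedFst f Z Z) :=
    congrArg (fun A : Set S' => s' ∈ A) (locusTop_eq_preimage topInv_locClosedFst h Z Z)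
  have h2 := maxDims_eq_of_isPullback h Z s'
  change IsLocallyClosed _ ∧ _ ↔ IsLocallyClosed _ ∧ _
  rw [h2]
  have h3 : IsLocallyClosed ((f'.fiberι s') ⁻¹' (pX ⁻¹' Z)) ↔
      IsLocallyClosed ((f.fiberι (π s')) ⁻¹' Z) := iff_of_eq h1
  rw [h3]

set_option backward.isDefEq.respectTransparency false in
/-- the generic part: over an integral Noetherian base the locus or its complement contains a
nonempty open. -/
theorem generic_locus {X S : Scheme.{u}} (f : X ⟶ S) [IsIntegral S] [IsNoetherian S]
    [LocallyOfFiniteType f] [QuasiCompact f] (Z : Set X) (hZ : IsConstructible Z) :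
    (interior (locus Φ f Z)).Nonempty ∨ (interior (locus Φ f Z)ᶜ).Nonempty := by
  have hsub : locus Φ f Z ⊆ locusTop locClosedFst f Z Z := fun s hs => hs.1
  rcases genericTop_locClosedFst f Z Z hZ hZ with h | h
  · have hη : genericPoint S ∈ interior (locusTop locClosedFst f Z Z) := by
      obtain ⟨x, hx⟩ := h
      rw [(genericPoint_spec S).mem_open_set_iff isOpen_interior]
      exact ⟨x, trivial, hx⟩
    obtain ⟨V, hV, hV0, hV'⟩ := maxDims_generic f Z hZ
      ⟨interior (locusTop locClosedFst f Z Z), isOpen_interior⟩ hη
      (fun s hs => by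
        have h2 : s ∈ locusTop locClosedFst f Z Z := interior_subset hs
        exact h2)
    by_cases hΦ : maxDims f Z (genericPoint S) = Φ
    · left
      refine ⟨genericPoint S, mem_interior.mpr ⟨V, fun s hs => ⟨?_, (hV' s hs).trans hΦ⟩, V.2, hV⟩⟩
      have h2 : s ∈ locusTop locClosedFst f Z Z := interior_subset (hV0 hs)
      exact h2
    · right
      exact ⟨genericPoint S, mem_interior.mpr ⟨V, fun s hs h' =>
        hΦ ((hV' s hs).symm.trans h'.2), V.2, hV⟩⟩
  · right
    exact h.mono (interior_mono (Set.compl_subset_compl.mpr hsub))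

set_option backward.isDefEq.respectTransparency false in
/-- the locus over a Noetherian affine base. -/
theorem isConstructible_locus_noeth (A : Type u)
    [CommRing A] [IsNoetherianRing A] {X : Scheme.{u}} (f : X ⟶ Spec (CommRingCat.of A))
    [LocallyOfFiniteType f] [QuasiCompact f] (Z : Set X) (hZ : IsConstructible Z) :
    IsConstructible (locus Φ f Z) := by
  apply isConstructible_of_forall_prime
  intro x
  rw [← locus_eq_preimage Φ (IsPullback.of_hasPullback f (primeIncl A x)) Z]
  haveI : IsDomain (A ⧸ x.asIdeal) := Ideal.Quotient.isDomain x.asIdeal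
  exact generic_locus Φ (pullback.snd f (primeIncl A x)) _
    ((pullback.fst f (primeIncl A x)).isConstructible_preimage hZ)

set_option backward.isDefEq.respectTransparency false in
/-- the locus is locally constructible for a morphism of finite presentation and a locally
constructible subset. -/
theorem isLocallyConstructible_locus {X S : Scheme.{u}} (f : X ⟶ S)
    [LocallyOfFinitePresentation f] [QuasiCompact f] [QuasiSeparated f] (Z : Set X)
    (hZ : IsLocallyConstructible Z) : IsLocallyConstructible (locus Φ f Z) := by
  apply isLocallyConstructible_of_forall_affineOpen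
  intro V hV
  rw [← locus_eq_preimage Φ (IsPullback.of_hasPullback f hV.fromSpec) Z]
  haveI : CompactSpace ↥(pullback f hV.fromSpec) :=
    QuasiCompact.compactSpace_of_compactSpace (pullback.snd f hV.fromSpec)
  haveI : QuasiSeparatedSpace ↥(pullback f hV.fromSpec) :=
    quasiSeparatedSpace_of_quasiSeparated (pullback.snd f hV.fromSpec)
  have hZ1 : IsConstructible ((pullback.fst f hV.fromSpec) ⁻¹' Z) :=
    (isLocallyConstructible_preimage _ hZ).isConstructible
  obtain ⟨A₀, _, _, π, X₀, f₀, q, Z₀, Z₀', _, _, hpb, hZ₀, hZ₀', e, e'⟩ :=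
    exists_noetherian_model_sets ↑Γ(S, V) (pullback.snd f hV.fromSpec) _ _ hZ1 hZ1
  rw [← e, locus_eq_preimage Φ hpb]
  exact isLocallyConstructible_preimage π
    (isConstructible_locus_noeth Φ A₀ f₀ Z₀ hZ₀).isLocallyConstructible

/-- EGA IV 9.5.5-type statement: the level sets of the function giving the set of dimensions of
the irreducible components of the traces on the fibres of a locally constructible subset whose
traces are locally closed are locally constructible. -/
theorem isLocallyConstructible_setOf_componentDims_eq {X S : Scheme.{u}} (f : X ⟶ S)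
    [LocallyOfFinitePresentation f] [QuasiCompact f] [QuasiSeparated f]
    (Z : Set X) (hZ : IsLocallyConstructible Z)
    (hZs : ∀ s : S, IsLocallyClosed (Subtype.val ⁻¹' Z : Set ↥(⇑f ⁻¹' {s}))) :
    IsLocallyConstructible {s : S |
      (fun T : Set ↥(Z ∩ ⇑f ⁻¹' {s}) => topologicalKrullDim ↥T) ''
        irreducibleComponents ↥(Z ∩ ⇑f ⁻¹' {s}) = Φ} := by
  have e : {s : S | (fun T : Set ↥(Z ∩ ⇑f ⁻¹' {s}) => topologicalKrullDim ↥T) ''
      irreducibleComponents ↥(Z ∩ ⇑f ⁻¹' {s}) = Φ} = locus Φ f Z := by
    ext s
    have h1 : s ∈ locusTop locClosedFst f Z Z := by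
      rw [← setOf_isLocallyClosed_eq]
      exact hZs s
    change _ = Φ ↔ IsLocallyClosed _ ∧ _
    rw [compDims_eq_maxDims f Z s (hZs s)]
    exact ⟨fun h => ⟨h1, h⟩, fun h => h.2⟩
  rw [e]
  exact isLocallyConstructible_locus Φ f Z hZ

end Groth.Agent.Helper7.CompDim
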